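import Groth.Prelude.Def_ModSite
import Mathlib.Algebra.Category.ModuleCat.Presheaf.Sheafification
import Mathlib.Algebra.Category.ModuleCat.Presheaf.Colimits
import Mathlib.Algebra.Category.ModuleCat.Sheaf.Colimits
import Mathlib.CategoryTheory.Sites.EpiMono
import Groth.Agent.QCoh.ToSheaf

/-!
# Sections of coproducts of sheaves of modules
-/

set_option linter.style.haveILetI false
set_option backward.isDefEq.respectTransparency false
set_option backward.isDefEq.respectTransparency.types false

universe u

open CategoryTheory CategoryTheory.Limits Opposite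

namespace Groth.Agent.SiteBase

variable {C : Type u} [SmallCategory C] {J : GrothendieckTopology C}

/-- An element of a coproduct of presheaves of modules is a finite sum. -/
theorem presheaf_coprod_exists_sum {R : Cᵒᵖ ⥤ RingCat.{u}} {I : Type u} (P : I → PresheafOfModules.{u} R)
    (U : Cᵒᵖ) (t : (∐ P).obj U) :
    ∃ (S : Finset I) (a : ∀ i, (P i).obj U), t = ∑ i ∈ S, ((Sigma.ι P i).app U).hom (a i) := by
  classical
  let W : Submodule (R.obj U) ((∐ P).obj U) := ⨆ i, LinearMap.range ((Sigma.ι P i).app U).hom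
  have hW : W = ⊤ := by
    refine Submodule.eq_top_iff'.2 fun x => ?_
    have h0 : (ModuleCat.ofHom W.mkQ : (∐ P).obj U ⟶ ModuleCat.of _ (_ ⧸ W)) = 0 := by
      refine (isColimitOfPreserves (PresheafOfModules.evaluation R U) (colimit.isColimit (Discrete.functor P))).hom_ext
        fun ⟨i⟩ => ?_
      ext y
      refine (Submodule.Quotient.mk_eq_zero W).2 ?_
      exact Submodule.mem_iSup_of_mem i ⟨y, rfl⟩
    exact (Submodule.Quotient.mk_eq_zero W).1 (congrArg (fun φ => φ.hom x) h0)
  obtain ⟨f, hf, hsum⟩ := (Submodule.mem_iSup_iff_exists_finsupp _ _).1 (hW ▸ Submodule.mem_top : t ∈ W)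
  choose a ha using hf
  exact ⟨f.support, a, by rw [← hsum, Finsupp.sum]; exact Finset.sum_congr rfl fun i _ => (ha i).symm⟩

variable {O : Sheaf J CommRingCat.{u}}

/-- A section of a coproduct is locally a finite sum of sections of the summands. -/
theorem coprod_locally_sum {I : Type u} (F : I → ModSite.Mod O) [HasCoproduct F] (U : C)
    (s : ModSite.sect (∐ F) U) :
    ∃ T : Sieve U, T ∈ J U ∧ ∀ ⦃V : C⦄ (g : V ⟶ U), T g → ∃ (S : Finset I) (a : ∀ i, ModSite.sect (F i) V),
      ((∐ F).val.map g.op).hom s = ∑ i ∈ S, ((Sigma.ι F i).val.app (op V)).hom (a i) := by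
  classical
  let α : (ModSite.ringSh O).obj ⟶ (ModSite.ringSh O).obj := 𝟙 _
  haveI : Presheaf.IsLocallyInjective J α := inferInstance
  haveI : Presheaf.IsLocallySurjective J α := inferInstance
  let adj := PresheafOfModules.sheafificationAdjunction α
  let G : ModSite.Mod O ⥤ PresheafOfModules.{u} (ModSite.ringSh O).obj :=
    SheafOfModules.forget _ ⋙ PresheafOfModules.restrictScalars α
  let P : I → PresheafOfModules.{u} (ModSite.ringSh O).obj := fun i => G.obj (F i)
  let c : ∐ P ⟶ G.obj (∐ F) := Sigma.desc fun i => G.map (Sigma.ι F i)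
  let c' := (adj.homEquiv _ _).symm c
  haveI hepi : Epi c' := ⟨fun {Z} g g' h => by
    have h2 := congrArg (adj.homEquiv _ _) h
    rw [adj.homEquiv_naturality_right, adj.homEquiv_naturality_right, Equiv.apply_symm_apply] at h2
    refine Sigma.hom_ext _ _ fun i => ?_
    have h3 := congrArg (fun φ => Sigma.ι P i ≫ φ) h2
    simp only [c, colimit.ι_desc_assoc, Cofan.mk_ι_app] at h3
    exact G.map_injective (by rw [G.map_comp, G.map_comp]; exact h3)⟩
  haveI : Epi ((SheafOfModules.toSheaf (ModSite.ringSh O)).map c') := inferInstance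
  haveI hsurj : Presheaf.IsLocallySurjective J ((PresheafOfModules.toPresheaf _).map c'.val) :=
    (Sheaf.isLocallySurjective_iff_epi' AddCommGrpCat.{u}
      ((SheafOfModules.toSheaf (ModSite.ringSh O)).map c')).2 inferInstance
  haveI : Presheaf.IsLocallySurjective J
      (CategoryTheory.toSheafify J (∐ P).presheaf ≫ (PresheafOfModules.toPresheaf _).map c'.val) :=
    inferInstance
  have hfac : c = adj.unit.app (∐ P) ≫ G.map c' := by
    exact ((adj.homEquiv _ _).apply_symm_apply c).symm.trans (adj.homEquiv_unit _ _ c')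
  refine ⟨_, Presheaf.imageSieve_mem J
    (CategoryTheory.toSheafify J (∐ P).presheaf ≫ (PresheafOfModules.toPresheaf _).map c'.val) s,
    fun V g hg => ?_⟩
  obtain ⟨t, ht⟩ := hg
  obtain ⟨S, a, ha⟩ := presheaf_coprod_exists_sum P (op V) t
  refine ⟨S, a, ?_⟩
  have h1 : (c.app (op V)).hom t = ((∐ F).val.map g.op).hom s := by
    rw [hfac]; exact ht
  rw [← h1, ha, map_sum]
  refine Finset.sum_congr rfl fun i _ => ?_
  exact congrArg (fun φ : P i ⟶ G.obj (∐ F) => (φ.app (op V)).hom (a i)) (colimit.ι_desc (Cofan.mk _ fun i => G.map (Sigma.ι F i)) ⟨i⟩)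

end Groth.Agent.SiteBase
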