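import Groth.Agent.SiteBase.CoprodSect
import Groth.Agent.ModTensor.FreeOn
import Groth.Prelude.Def_CohCx
import Mathlib.CategoryTheory.Sites.LocallyBijective
import Mathlib.Algebra.Category.Grp.Colimits
import Mathlib.Algebra.BigOperators.Finprod

/-!
# Finite sums: sections of coproducts over quasi-compact objects
-/

set_option linter.style.haveILetI false
set_option backward.isDefEq.respectTransparency false
set_option backward.isDefEq.respectTransparency.types false

universe u

open CategoryTheory CategoryTheory.Limits Opposite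

namespace Groth.Agent.SiteBase

section criterion

variable {A : Type*} [Category A] [Preadditive A] {I : Type u} (F : I → A) [HasCoproduct F]

open scoped Classical in
/-- The projection from a coproduct. -/
noncomputable def coprodProj (i : I) : (∐ F) ⟶ F i :=
  Sigma.desc fun j => if h : j = i then eqToHom (congrArg F h) else 0

lemma ι_coprodProj (i : I) : Sigma.ι F i ≫ coprodProj F i = 𝟙 _ := by
  simp [coprodProj]

lemma ι_coprodProj_ne {i j : I} (h : j ≠ i) : Sigma.ι F j ≫ coprodProj F i = 0 := by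
  simp [coprodProj, h]

variable (G : A ⥤ AddCommGrpCat.{u}) [G.Additive]

lemma proj_ι_apply (i : I) (x : G.obj (F i)) :
    (G.map (coprodProj F i)).hom ((G.map (Sigma.ι F i)).hom x) = x := by
  rw [← ConcreteCategory.comp_apply, ← Functor.map_comp, ι_coprodProj, CategoryTheory.Functor.map_id]
  rfl

lemma proj_ι_apply_ne {i j : I} (h : j ≠ i) (x : G.obj (F j)) :
    (G.map (coprodProj F i)).hom ((G.map (Sigma.ι F j)).hom x) = 0 := by
  rw [← ConcreteCategory.comp_apply, ← Functor.map_comp, ι_coprodProj_ne F h, Functor.map_zero]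
  rfl

/-- An additive functor to abelian groups preserves a coproduct as soon as every element is the finite sum
of its components. -/
theorem preservesCoproduct_of_finite_sum
    (h : ∀ x : G.obj (∐ F), ∃ S : Finset I,
      x = ∑ i ∈ S, (G.map (Sigma.ι F i)).hom ((G.map (coprodProj F i)).hom x)) :
    PreservesColimit (Discrete.functor F) G := by
  classical
  choose S hS using h
  have hzero : ∀ x i, i ∉ S x → (G.map (coprodProj F i)).hom x = 0 := fun x i hi => by
    conv_lhs => rw [hS x]
    rw [map_sum]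
    exact Finset.sum_eq_zero fun j hj => proj_ι_apply_ne F G (by rintro rfl; exact hi hj) _
  refine preservesColimit_of_preserves_colimit_cocone (coproductIsCoproduct F)
    ((isColimitMapCoconeCofanMkEquiv G _ _).symm ?_)
  let toHom : ∀ {T : AddCommGrpCat.{u}} (c : ∀ i, G.obj (F i) ⟶ T), G.obj (∐ F) → T := fun c x =>
    ∑ i ∈ S x, (c i).hom ((G.map (coprodProj F i)).hom x)
  have hset : ∀ {T : AddCommGrpCat.{u}} (c : ∀ i, G.obj (F i) ⟶ T) (x : G.obj (∐ F)) (S' : Finset I),
      S x ⊆ S' → toHom c x = ∑ i ∈ S', (c i).hom ((G.map (coprodProj F i)).hom x) := fun c x S' hsub =>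
    Finset.sum_subset hsub fun i _ hi => by rw [hzero x i hi, map_zero]
  refine Cofan.IsColimit.mk _ (fun c => AddCommGrpCat.ofHom (AddMonoidHom.mk' (toHom c.inj) fun x y => ?_))
    (fun c j => ?_) (fun c m hm => ?_)
  · rw [hset c.inj (x + y) (S x ∪ S y ∪ S (x + y)) Finset.subset_union_right,
      hset c.inj x (S x ∪ S y ∪ S (x + y)) (Finset.subset_union_left.trans Finset.subset_union_left),
      hset c.inj y (S x ∪ S y ∪ S (x + y)) (Finset.subset_union_right.trans Finset.subset_union_left),
      ← Finset.sum_add_distrib]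
    simp only [map_add]
  · ext z
    show toHom c.inj ((G.map (Sigma.ι F j)).hom z) = (c.inj j).hom z
    rw [hset c.inj _ (insert j (S ((G.map (Sigma.ι F j)).hom z))) (Finset.subset_insert _ _),
      Finset.sum_eq_single_of_mem j (Finset.mem_insert_self _ _) fun i _ hij => by
        rw [proj_ι_apply_ne F G (Ne.symm hij), map_zero], proj_ι_apply]
  · ext x
    show m.hom x = toHom c.inj x
    conv_lhs => rw [hS x]
    rw [map_sum]
    exact Finset.sum_congr rfl fun i _ => ConcreteCategory.congr_hom (hm i) _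

end criterion

variable {C : Type u} [SmallCategory C] {J : GrothendieckTopology C}

/-- A covering sieve of a quasi-compact object is refined by finitely many of its members. -/
theorem exists_finite_cover_of_isQcObject {W : C}
    (hW : CohCx.IsQcObject ((presheafToSheaf J (Type u)).obj (yoneda.obj W))) (T : Sieve W) (hT : T ∈ J W) :
    ∃ t : Finset (Σ V : C, {g : V ⟶ W // T g}),
      Sieve.ofArrows (fun a : t => a.1.1) (fun a => a.1.2.1) ∈ J W := by
  classical
  let K := (presheafToSheaf J (Type u)).obj (yoneda.obj W)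
  let L : (Σ V : C, {g : V ⟶ W // T g}) → Sheaf J (Type u) := fun a =>
    (presheafToSheaf J (Type u)).obj (yoneda.obj a.1)
  let f : ∀ a, L a ⟶ K := fun a => (presheafToSheaf J (Type u)).map (yoneda.map a.2.1)
  let ηW := CategoryTheory.toSheafify J (yoneda.obj W)
  have hnat : ∀ (a : Σ V : C, {g : V ⟶ W // T g}) (U : C) (k : U ⟶ a.1),
      (f a).hom.app (op U) ((CategoryTheory.toSheafify J (yoneda.obj a.1)).app (op U) k) =
        ηW.app (op U) (k ≫ a.2.1) := fun a U k =>
    (ConcreteCategory.congr_hom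
      (NatTrans.congr_app (CategoryTheory.toSheafify_naturality J (yoneda.map a.2.1)) (op U)) k).symm
  have hjs : CohCx.JointlySurjective f := by
    intro U s
    refine ⟨Sieve.bind (Presheaf.imageSieve ηW s).arrows fun V g hg => T.pullback hg.choose,
      J.bind_covering (Presheaf.imageSieve_mem J ηW s) fun V g hg => J.pullback_stable _ hT, ?_⟩
    rintro V g ⟨V', g', g'', hg'', hg', rfl⟩
    let k := hg''.choose
    have hk : ηW.app (op V') k = K.obj.map g''.op s := hg''.choose_spec
    refine ⟨⟨V, ⟨g' ≫ k, hg'⟩⟩, (CategoryTheory.toSheafify J (yoneda.obj V)).app (op V) (𝟙 V), ?_⟩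
    rw [hnat, Category.id_comp, op_comp, Functor.map_comp]
    refine Eq.trans ?_ (congrArg (K.obj.map g'.op) hk)
    exact NatTrans.naturality_apply ηW g'.op k
  obtain ⟨t, ht⟩ := hW _ L f hjs
  refine ⟨t, ?_⟩
  obtain ⟨S, hS, hS'⟩ := ht W (ηW.app (op W) (𝟙 W))
  refine J.transitive hS _ fun V g hg => ?_
  obtain ⟨a, x, hx⟩ := hS' V g hg
  refine J.transitive (Presheaf.imageSieve_mem J (CategoryTheory.toSheafify J (yoneda.obj a.1.1)) x) _
    fun V' g' ⟨k, hk⟩ => ?_
  have he : ηW.app (op V') (k ≫ a.1.2.1) = ηW.app (op V') (g' ≫ g) := by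
    rw [← hnat]
    refine (congrArg ((f a.1).hom.app (op V')) hk).trans ?_
    refine (NatTrans.naturality_apply (f a.1).hom g'.op x).trans ?_
    refine (congrArg (K.obj.map g'.op) hx).trans ?_
    rw [← ConcreteCategory.comp_apply, ← Functor.map_comp, ← op_comp]
    exact ((NatTrans.naturality_apply ηW (g' ≫ g).op (𝟙 W)).symm.trans
      (congrArg (ηW.app (op V')) (Category.comp_id _)))
  refine J.superset_covering ?_ (Presheaf.equalizerSieve_mem J ηW _ _ he)
  intro V'' q hq
  refine ⟨a.1.1, q ≫ k, a.1.2.1, Presieve.ofArrows.mk a, ?_⟩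
  have hq' : q ≫ (k ≫ a.1.2.1) = q ≫ (g' ≫ g) := hq
  simpa using hq'

variable {O : Sheaf J CommRingCat.{u}}

/-- A section of a coproduct over a quasi-compact object is the finite sum of its components. -/
theorem coprod_finite_sum {W : C} (hW : CohCx.IsQcObject ((presheafToSheaf J (Type u)).obj (yoneda.obj W)))
    {I : Type u} (F : I → ModSite.Mod O) [HasCoproduct F] (s : ModSite.sect (∐ F) W) :
    ∃ S : Finset I, s = ∑ i ∈ S,
      ((Sigma.ι F i).val.app (op W)).hom (((coprodProj F i).val.app (op W)).hom s) := by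
  classical
  obtain ⟨T, hT, hTs⟩ := coprod_locally_sum F W s
  obtain ⟨t, ht⟩ := exists_finite_cover_of_isQcObject hW T hT
  choose S a ha using fun b : t => hTs b.1.2.1 b.1.2.2
  refine ⟨t.attach.biUnion S, ?_⟩
  let M := (SheafOfModules.toSheaf (ModSite.ringSh O)).obj (∐ F)
  have hsh : Presieve.IsSheaf J (M.obj ⋙ forget AddCommGrpCat.{u}) :=
    (isSheaf_iff_isSheaf_of_type J _).1 ((Presheaf.isSheaf_iff_isSheaf_forget J M.obj (forget AddCommGrpCat.{u})).1 M.property)
  refine (Presieve.isSeparatedFor_iff_generate.2 (hsh.isSeparated _ ht)).ext fun V g hg => ?_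
  obtain ⟨b⟩ := hg
  show ((∐ F).val.map b.1.2.1.op).hom s = ((∐ F).val.map b.1.2.1.op).hom _
  refine Eq.trans ?_ (map_sum ((∐ F).val.map b.1.2.1.op).hom _ _).symm
  have hnat : ∀ i, ((∐ F).val.map b.1.2.1.op).hom (((Sigma.ι F i).val.app (op W)).hom
      (((coprodProj F i).val.app (op W)).hom s)) =
      ((Sigma.ι F i).val.app (op b.1.1)).hom (((coprodProj F i).val.app (op b.1.1)).hom
        (((∐ F).val.map b.1.2.1.op).hom s)) := fun i =>
    (PresheafOfModules.naturality_apply ((coprodProj F i ≫ Sigma.ι F i).val) b.1.2.1.op s).symm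
  rw [Finset.sum_congr rfl fun i _ => hnat i]
  let G : ModSite.Mod O ⥤ AddCommGrpCat.{u} :=
    SheafOfModules.toSheaf (ModSite.ringSh O) ⋙ (sheafSections J AddCommGrpCat.{u}).obj (op b.1.1)
  haveI : G.Additive := { map_add := rfl }
  have hπ : ∀ i ∈ S b, ((coprodProj F i).val.app (op b.1.1)).hom
      (∑ j ∈ S b, ((Sigma.ι F j).val.app (op b.1.1)).hom (a b j)) = a b i := fun i hi => by
    rw [map_sum]
    refine (Finset.sum_eq_single_of_mem i hi fun j _ hji => proj_ι_apply_ne F G hji (a b j)).trans ?_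
    exact proj_ι_apply F G i (a b i)
  have hπ0 : ∀ i, i ∉ S b → ((coprodProj F i).val.app (op b.1.1)).hom
      (∑ j ∈ S b, ((Sigma.ι F j).val.app (op b.1.1)).hom (a b j)) = 0 := fun i hi => by
    rw [map_sum]
    exact Finset.sum_eq_zero fun j hj => proj_ι_apply_ne F G (by rintro rfl; exact hi hj) (a b j)
  rw [← Finset.sum_subset (Finset.subset_biUnion_of_mem S (Finset.mem_attach t b)) fun i _ hi => ?_]
  · exact (ha b).trans (Finset.sum_congr rfl fun i hi => by rw [ha b, hπ i hi])
  · rw [ha b, hπ0 i hi, map_zero]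

end Groth.Agent.SiteBase

namespace Groth.Agent.SiteBase

variable {C : Type u} [SmallCategory C] {J : GrothendieckTopology C} {O : Sheaf J CommRingCat.{u}}

theorem preservesCoproducts_sections {W : C}
    (hW : CohCx.IsQcObject ((presheafToSheaf J (Type u)).obj (yoneda.obj W))) (ι : Type u) :
    PreservesColimitsOfShape (Discrete ι)
      (SheafOfModules.toSheaf (ModSite.ringSh O) ⋙ (sheafSections J AddCommGrpCat.{u}).obj (op W)) := by
  let G : ModSite.Mod O ⥤ AddCommGrpCat.{u} :=
    SheafOfModules.toSheaf (ModSite.ringSh O) ⋙ (sheafSections J AddCommGrpCat.{u}).obj (op W)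
  haveI : G.Additive := { map_add := rfl }
  refine ⟨fun {K} => ?_⟩
  haveI : PreservesColimit (Discrete.functor (K.obj ∘ Discrete.mk)) G :=
    preservesCoproduct_of_finite_sum _ G fun x => coprod_finite_sum hW _ x
  exact preservesColimit_of_iso_diagram G (Discrete.natIsoFunctor (F := K)).symm

theorem preservesCoproducts_hom_freeOn {U : C}
    (hU : CohCx.IsQcObject ((presheafToSheaf J (Type u)).obj (yoneda.obj U))) (ι : Type u) :
    PreservesColimitsOfShape (Discrete ι) (preadditiveCoyoneda.obj (op (ModSite.freeOn O U))) := by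
  let e := ModTensor.freeOnCorepr O U
  let u₀ : ModSite.sect (ModSite.freeOn O U) U := e.homEquiv (𝟙 _)
  have hext : ∀ {M : ModSite.Mod O} (φ ψ : ModSite.freeOn O U ⟶ M),
      (φ.val.app (op U)).hom u₀ = (ψ.val.app (op U)).hom u₀ → φ = ψ := fun φ ψ h => by
    refine e.homEquiv.injective ?_
    rw [← Category.id_comp φ, ← Category.id_comp ψ, e.homEquiv_comp, e.homEquiv_comp]
    exact h
  let G := preadditiveCoyoneda.obj (op (ModSite.freeOn O U))
  haveI : G.Additive := inferInstance
  refine ⟨fun {K} => ?_⟩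
  haveI : PreservesColimit (Discrete.functor (K.obj ∘ Discrete.mk)) G := by
    refine preservesCoproduct_of_finite_sum _ G fun φ => ?_
    obtain ⟨S, hS⟩ := coprod_finite_sum hU _ ((φ.val.app (op U)).hom u₀)
    refine ⟨S, hext _ _ (hS.trans ?_)⟩
    let ev : (ModSite.freeOn O U ⟶ ∐ K.obj ∘ Discrete.mk) →+ ModSite.sect (∐ K.obj ∘ Discrete.mk) U :=
      AddMonoidHom.mk' (fun ψ => (ψ.val.app (op U)).hom u₀) fun _ _ => rfl
    exact (Finset.sum_congr rfl fun i _ => rfl).trans (map_sum ev (fun i => (G.map (Sigma.ι (K.obj ∘ Discrete.mk) i)).hom ((G.map (coprodProj (K.obj ∘ Discrete.mk) i)).hom φ)) S).symm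
  exact preservesColimit_of_iso_diagram G (Discrete.natIsoFunctor (F := K)).symm

end Groth.Agent.SiteBase
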